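import Cfsg.Agent.S4765
import Cfsg.Agent.S0276
import Cfsg.Agent.H606.ThreePrimes

/-!
# S4515, R3: principal 2-blocks of `SL(2, 2^e)` and of groups with Sylow 2-subgroups of order 4 (helper41)
-/

set_option autoImplicit false

namespace Cfsg.Agent.H41.EB515

open Cfsg Cfsg.Agent.Characters Cfsg.Agent.Blocks.Blau

universe u

variable {S : Type u} [Group S] [Finite S] {M : Ideal AlgInt}

/-- the principal `p`-block has no member of defect zero (if its degree is divisible by `p`) -/
theorem not_defect_zero {p : ℕ} [Fact p.Prime] (hM : IsPModular p M) {χ : IrrCharacter S} (hχ : χ ∈ principalBlock M S)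
    (hd : p ∣ charDegree (χ : S → ℂ)) : p ∣ Nat.card S / charDegree (χ : S → ℂ) := by
  have hp : p.Prime := Fact.out
  have hMp := Cfsg.Agent.Blocks.Local.isPrime_of_isPModular hM
  by_contra hnd
  let χ₀ : IrrCharacter S := ⟨_, Core.isIrr_one⟩
  have hB : IsPBlock M (principalBlock M S) := ⟨χ₀, rfl⟩
  have hχ₀ : χ₀ ∈ principalBlock M S := fun g => by
    change Cfsg.MemLocalIdeal M (centralChar (fun _ : S => (1 : ℂ)) g -
      centralChar (fun _ : S => (1 : ℂ)) g)
    rw [sub_self]; exact Cfsg.Agent.Blocks.Local.memLocalIdeal_zero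
  have hd0 : charDegree (χ₀ : S → ℂ) = 1 := by
    apply charDegree_eq
    change (1 : ℂ) = _
    rw [Nat.cast_one]
  have h2 := (Cfsg.Agent.S0914.result p M hM χ).1 hnd
  have h3 : χ₀ ∈ blockOf M (χ : S → ℂ) := sameBlock_of_mem hM hB hχ hχ₀
  rw [h2, Set.mem_singleton_iff] at h3
  rw [← h3, hd0] at hd
  exact hp.one_lt.ne' (Nat.dvd_one.1 hd)

/-- [R3] the principal 2-block of `SL(2, 2^e)` -/
theorem odd_of_sl2 (F : Type) [Field F] [Fintype F] (e : ℕ) (he : 2 ≤ e) (hF : Fintype.card F = 2 ^ e)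
    (hS : Nonempty (S ≃* Matrix.SpecialLinearGroup (Fin 2) F)) (hM : IsPModular 2 M)
    (χ : IrrCharacter S) (hχ : χ ∈ principalBlock M S) : Odd (charDegree (χ : S → ℂ)) := by
  obtain ⟨f⟩ := hS
  have h2 : ringChar F = 2 := by
    rw [FiniteField.even_card_iff_char_two, hF]
    exact Nat.even_iff.1 ((Nat.even_pow.2 ⟨even_two, by omega⟩))
  have : CharP F 2 := ringChar.of_eq h2
  by_contra hodd
  rw [Nat.not_odd_iff_even, even_iff_two_dvd] at hodd
  have h3 : IsIrrCharacter (Matrix.SpecialLinearGroup (Fin 2) F) ((χ : S → ℂ) ∘ f.symm.toMonoidHom) :=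
    Core.isIrr_comp f.symm.toMonoidHom f.symm.surjective χ.2
  have h4 : charDegree ((χ : S → ℂ) ∘ f.symm.toMonoidHom) = charDegree (χ : S → ℂ) := by
    unfold charDegree
    rw [Function.comp_apply, map_one]
  have h5 := Cfsg.Agent.S4765.degree_of_dvd (p := 2) h3 (by rw [h4]; exact hodd)
  have h6 : charDegree (χ : S → ℂ) = 2 ^ e := by
    rw [← h4, charDegree_eq h5, hF]
  have h7 : Nat.card S = 2 ^ e * ((2 ^ e) ^ 2 - 1) := by
    rw [Nat.card_congr f.toEquiv, Cfsg.Agent.S0276.card_sl_two hF]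
  have h8 := not_defect_zero hM hχ hodd
  rw [h6, h7, Nat.mul_div_cancel_left _ (by positivity)] at h8
  have h9 : 2 ∣ (2 ^ e) ^ 2 := by
    rw [← pow_mul]
    exact dvd_pow_self 2 (by omega)
  have h10 : 1 ≤ (2 ^ e) ^ 2 := Nat.one_le_pow _ _ (by positivity)
  omega

/-- [R3] the principal 2-block of a simple group with Sylow 2-subgroups of order 4 -/
theorem odd_of_four [IsSimpleGroup S] (_hna : ¬ IsMulCommutative S) (P : Sylow 2 S)
    (hP : Nat.card P = 4) (hM : IsPModular 2 M) (χ : IrrCharacter S)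
    (hχ : χ ∈ principalBlock M S) : Odd (charDegree (χ : S → ℂ)) := by
  have h1 : Nat.card P = 2 ^ (Nat.card S).factorization 2 := P.card_eq_multiplicity
  have h2 : (Nat.card S).factorization 2 = 2 := by
    rw [hP] at h1
    have : (2 : ℕ) ^ 2 = 2 ^ (Nat.card S).factorization 2 := by rw [← h1]; norm_num
    exact (Nat.pow_right_injective le_rfl this).symm
  have h3 : 2 ∣ Nat.card S := by
    have h4 : 4 ∣ Nat.card S := by
      rw [← hP]
      exact Subgroup.card_subgroup_dvd_card (P : Subgroup S)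
    exact Dvd.dvd.trans (by norm_num) h4
  have h4 := Cfsg.Agent.H606.ThreePrimes.not_dvd_degree hM h2.le h3 hχ
  rw [← Nat.not_even_iff_odd, even_iff_two_dvd]
  exact h4

end Cfsg.Agent.H41.EB515
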